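import Groth.Agent.Lib.NormalSerre.Basic
import Groth.Agent.Lib.RegLoc.Normal
import Groth.Agent.Lib.Depth.Transfer
import Groth.Agent.Lib.Depth.Reduce
import Groth.Agent.Lib.CMFree.Regular
import Mathlib.RingTheory.DedekindDomain.Dvr
import Mathlib.RingTheory.KrullDimension.Regular
import Mathlib.RingTheory.Ideal.AssociatedPrime.Finiteness
import Mathlib.Algebra.Module.LocalizedModule.Submodule

/-!
# Serre's criterion for normality
-/

universe u

open IsLocalRing RingTheory.Sequence
open scoped Pointwise

namespace GrothLib.NormalSerre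

theorem exists_notMem_of_not_le {A : Type u} [CommRing A] {S : Set (Ideal A)} (hS : S.Finite)
    (hp : ∀ P ∈ S, P.IsPrime) {J : Ideal A} (h : ∀ P ∈ S, ¬ J ≤ P) : ∃ y ∈ J, ∀ P ∈ S, y ∉ P := by
  by_contra hcon
  push Not at hcon
  obtain ⟨P, hP, hle⟩ := (Ideal.subset_union_prime (s := hS.toFinset) (f := fun i : Ideal A => i) ⊤ ⊤
    fun i hi _ _ => hp i (hS.mem_toFinset.1 hi)).1 fun y hy => by
      obtain ⟨P, hP, hyP⟩ := hcon y hy
      exact Set.mem_biUnion (hS.mem_toFinset.2 hP) hyP
  exact h P (hS.mem_toFinset.1 hP) hle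

/-- A normal Noetherian local domain of dimension at least two has depth at least two. -/
theorem exists_pair_of_isIntegrallyClosed {A : Type u} [CommRing A] [IsLocalRing A]
    [IsNoetherianRing A] [IsDomain A] [IsIntegrallyClosed A] (h : 1 < (maximalIdeal A).height) :
    ∃ x y : A, x ∈ maximalIdeal A ∧ y ∈ maximalIdeal A ∧ IsWeaklyRegular A [x, y] := by
  have hne : maximalIdeal A ≠ ⊥ := fun e => by
    rw [e, Ideal.height_bot] at h; simp at h
  obtain ⟨x, hx, hx0⟩ := Submodule.exists_mem_ne_zero_of_ne_bot hne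
  have hnass : maximalIdeal A ∉ associatedPrimes A (A ⧸ Ideal.span {x}) := by
    intro hass
    obtain ⟨-, z, hz⟩ := isAssociatedPrime_iff.1 hass
    obtain ⟨b, rfl⟩ := Ideal.Quotient.mk_surjective z
    have hmem : ∀ r, r ∈ maximalIdeal A ↔ x ∣ r * b := fun r => by
      rw [hz, Submodule.mem_colon_singleton, Submodule.mem_bot]
      show r • Ideal.Quotient.mk _ b = 0 ↔ _
      rw [Algebra.smul_def, Ideal.Quotient.algebraMap_eq, ← map_mul, Ideal.Quotient.eq_zero_iff_mem,
        Ideal.mem_span_singleton]
    by_cases hstep : ∀ r ∈ maximalIdeal A, ∀ c, r * b = x * c → c ∈ maximalIdeal A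
    · -- `b / x` maps `𝔪` to itself, hence is integral
      let K := FractionRing A
      have hxK : algebraMap A K x ≠ 0 := fun e => hx0 (IsFractionRing.injective A K (e.trans (map_zero _).symm))
      let z : K := algebraMap A K b / algebraMap A K x
      let M : Submodule A K := Submodule.map (Algebra.linearMap A K) (maximalIdeal A)
      have hz' : IsIntegral A z := by
        refine isIntegral_of_smul_mem_submodule M ?_ ((IsNoetherian.noetherian _).map _) z ?_
        · intro e
          apply hx0
          have hmem' : algebraMap A K x ∈ M := ⟨x, hx, rfl⟩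
          rw [e, Submodule.mem_bot] at hmem'
          exact absurd hmem' hxK
        · rintro _ ⟨r, hr, rfl⟩
          obtain ⟨c, hc⟩ := (hmem r).1 hr
          refine ⟨c, hstep r hr c hc, ?_⟩
          show algebraMap A K c = algebraMap A K b / algebraMap A K x * algebraMap A K r
          rw [div_mul_eq_mul_div, eq_div_iff hxK, ← map_mul, ← map_mul, mul_comm b r, hc, mul_comm]
      obtain ⟨c, hc⟩ := IsIntegrallyClosed.isIntegral_iff.1 hz'
      rw [eq_div_iff hxK, ← map_mul] at hc
      have hbx : x ∣ b := ⟨c, by rw [← IsFractionRing.injective A K hc, mul_comm]⟩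
      exact (maximalIdeal.isMaximal A).ne_top ((Ideal.eq_top_iff_one _).2 ((hmem 1).2 (by rwa [one_mul])))
    · push Not at hstep
      obtain ⟨t, ht, c, htc, hc⟩ := hstep
      obtain ⟨u, rfl⟩ : IsUnit c := of_not_not hc
      have hb : b ≠ 0 := fun e => hx0 (by
        rw [e, mul_zero] at htc; exact (Units.mul_left_eq_zero u).1 htc.symm)
      have hle : maximalIdeal A ≤ Ideal.span {t} := fun r hr => by
        obtain ⟨c', hc'⟩ := (hmem r).1 hr
        refine Ideal.mem_span_singleton'.2 ⟨↑u⁻¹ * c', mul_right_cancel₀ hb ?_⟩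
        rw [mul_assoc, htc, hc', show (↑u⁻¹ : A) * c' * (x * ↑u) = (↑u⁻¹ * ↑u) * (x * c') by ring,
          Units.inv_mul, one_mul]
      have heq : maximalIdeal A = Ideal.span {t} :=
        le_antisymm hle ((Ideal.span_singleton_le_iff_mem _).2 ht)
      have := Ideal.height_le_spanFinrank (maximalIdeal A) (maximalIdeal.isMaximal A).ne_top
      rw [heq] at this h
      exact absurd (this.trans (by exact_mod_cast (Submodule.spanFinrank_span_le_ncard_of_finite
        (R := A) (Set.finite_singleton t)).trans (by simp))) (not_le.2 h)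
  obtain ⟨y, hy, hyass⟩ := exists_notMem_of_not_le (associatedPrimes.finite A (A ⧸ Ideal.span {x}))
    (fun P hP => hP.isPrime) (J := maximalIdeal A) fun P hP hle => hnass
      (((maximalIdeal.isMaximal A).eq_of_le hP.isPrime.ne_top hle) ▸ hP)
  refine ⟨x, y, hx, hy, ?_⟩
  rw [isWeaklyRegular_cons_iff, isWeaklyRegular_cons_iff]
  refine ⟨(isRegular_iff_ne_zero.2 hx0).left.isSMulRegular, ?_, .nil _ _⟩
  have e : (A ⧸ Ideal.span {x}) ≃ₗ[A] QuotSMulTop x A := Submodule.quotEquivOfEq _ _ (by
    simp [← Submodule.ideal_span_singleton_smul])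
  rw [← e.isSMulRegular_congr y]
  intro a b hab
  rw [← sub_eq_zero]
  by_contra hne'
  have hzd : y ∈ ⋃ P ∈ associatedPrimes A (A ⧸ Ideal.span {x}), (P : Set A) := by
    rw [biUnion_associatedPrimes_eq_zero_divisors]
    exact ⟨a - b, hne', by rw [smul_sub]; exact sub_eq_zero.2 hab⟩
  obtain ⟨P, hP, hyP⟩ := Set.mem_iUnion₂.1 hzd
  exact hyass P hP hyP

/-- A normal Noetherian local domain of dimension at most one is regular. -/
theorem isRegularLocalRing_of_isIntegrallyClosed {A : Type u} [CommRing A] [IsLocalRing A]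
    [IsNoetherianRing A] [IsDomain A] [IsIntegrallyClosed A] (h : (maximalIdeal A).height ≤ 1) :
    IsRegularLocalRing A := by
  have : Ring.DimensionLEOne A := ⟨fun {P} hP hPp => by
    by_contra hmax
    have hlt : P < maximalIdeal A := lt_of_le_of_ne (le_maximalIdeal hPp.ne_top)
      fun e => hmax (e ▸ maximalIdeal.isMaximal A)
    have hb : (⊥ : Ideal A) < P := bot_lt_iff_ne_bot.2 hP
    have h1 := Ideal.height_strict_mono_of_isPrime_of_isPrime hb
    have h2 := Ideal.height_strict_mono_of_isPrime_of_isPrime hlt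
    rw [Ideal.height_bot] at h1
    exact absurd (h2.trans_le h) (not_lt.2 (Order.one_le_iff_pos.2 h1))⟩
  have : IsDedekindRing A := { }
  have : IsDedekindDomain A := { }
  exact IsRegularLocalRing.of_isRegularRing_of_isLocalRing A

/-- The localization of the ring as a module over itself. -/
theorem nonempty_localizedModule_self {R : Type u} [CommRing R] (p : Ideal R) [p.IsPrime] :
    Nonempty (LocalizedModule p.primeCompl R ≃ₗ[Localization.AtPrime p] Localization.AtPrime p) :=
  ⟨(IsLocalizedModule.linearEquiv p.primeCompl (LocalizedModule.mkLinearMap p.primeCompl R)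
    (Algebra.linearMap R (Localization.AtPrime p))).extendScalarsOfIsLocalization p.primeCompl _⟩

theorem supportDim_localizedModule_self {R : Type u} [CommRing R] [IsNoetherianRing R] (p : Ideal R)
    [p.IsPrime] :
    Module.supportDim (Localization.AtPrime p) (LocalizedModule p.primeCompl R) = (p.height : WithBot ℕ∞) := by
  obtain ⟨e⟩ := nonempty_localizedModule_self p
  rw [Module.supportDim_eq_of_equiv e, Module.supportDim_self_eq_ringKrullDim,
    IsLocalization.AtPrime.ringKrullDim_eq_height p (Localization.AtPrime p)]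

theorem natCast_le_depth_iff {R : Type u} [CommRing R] [IsNoetherianRing R] (p : Ideal R) [p.IsPrime]
    (n : ℕ) :
    (n : WithBot ℕ∞) ≤
      ((LocCoh.depth (Localization.AtPrime p) (LocalizedModule p.primeCompl R) : ℕ∞) : WithBot ℕ∞) ↔
    ∃ rs : List (Localization.AtPrime p), rs.length = n ∧ (∀ r ∈ rs, r ∈ maximalIdeal _) ∧
      IsWeaklyRegular (Localization.AtPrime p) rs := by
  obtain ⟨e⟩ := nonempty_localizedModule_self p
  have : Module.Finite (Localization.AtPrime p) (LocalizedModule p.primeCompl R) :=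
    Module.Finite.equiv e.symm
  show (n : WithBot ℕ∞) ≤ ((LocCoh.idealDepth _ _ : ℕ∞) : WithBot ℕ∞) ↔ _
  rw [GrothLib.Depth.idealDepth_eq_of_equiv _ e,
    show ((n : WithBot ℕ∞)) = (((n : ℕ∞)) : WithBot ℕ∞) from rfl, WithBot.coe_le_coe]
  refine GrothLib.Depth.le_idealDepth_iff_exists _ ?_ n
  rw [smul_eq_mul, Ideal.mul_top]
  exact (maximalIdeal.isMaximal _).ne_top

/-- Serre's criterion. -/
theorem normal_iff (R : Type u) [CommRing R] [IsNoetherianRing R] :
    (∀ (p : Ideal R) [p.IsPrime], IsDomain (Localization.AtPrime p) ∧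
      IsIntegrallyClosed (Localization.AtPrime p)) ↔ (LocCoh.HasRk 1 R ∧ LocCoh.HasSk 2 R R) := by
  have hheight : ∀ (p : Ideal R) [p.IsPrime],
      (maximalIdeal (Localization.AtPrime p)).height = p.height := fun p _ => by
    have h := IsLocalization.AtPrime.ringKrullDim_eq_height p (Localization.AtPrime p)
    rw [← maximalIdeal_height_eq_ringKrullDim] at h
    exact_mod_cast h
  constructor
  · intro h
    refine ⟨fun p _ hp => ?_, fun p _ => ?_⟩
    · obtain ⟨_, _⟩ := h p
      exact isRegularLocalRing_of_isIntegrallyClosed (by rw [hheight]; exact_mod_cast hp)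
    · obtain ⟨_, _⟩ := h p
      rw [supportDim_localizedModule_self]
      by_cases h2 : 1 < p.height
      · refine (min_le_left _ _).trans ((natCast_le_depth_iff p 2).2 ?_)
        obtain ⟨x, y, hx, hy, hxy⟩ := exists_pair_of_isIntegrallyClosed
          (A := Localization.AtPrime p) (by rwa [hheight])
        exact ⟨[x, y], rfl, List.forall_mem_cons.2 ⟨hx, List.forall_mem_singleton.2 hy⟩, hxy⟩
      · refine (min_le_right _ _).trans ?_
        rcases eq_or_ne p.height 0 with h0 | h0
        · rw [h0]; exact WithBot.coe_le_coe.2 zero_le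
        · have h1 : p.height = 1 := le_antisymm (not_lt.1 h2) (Order.one_le_iff_pos.2 (pos_iff_ne_zero.2 h0))
          rw [h1]
          refine le_trans (le_of_eq ?_) ((natCast_le_depth_iff p 1).2 ?_)
          · rfl
          have hne : maximalIdeal (Localization.AtPrime p) ≠ ⊥ := fun e => h0 (by
            rw [← hheight p, e, Ideal.height_bot])
          obtain ⟨x, hx, hx0⟩ := Submodule.exists_mem_ne_zero_of_ne_bot hne
          exact ⟨[x], rfl, List.forall_mem_singleton.2 hx, by
            rw [isWeaklyRegular_cons_iff]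
            exact ⟨(isRegular_iff_ne_zero.2 hx0).left.isSMulRegular, .nil _ _⟩⟩
  · rintro ⟨hR, hS⟩
    refine isDomain_isIntegrallyClosed_localization R (fun p _ hp => ?_) (fun p _ hp => ?_)
    · have := hR p (by exact_mod_cast hp)
      exact ⟨GrothLib.CMFree.isDomain_of_isRegularLocalRing _,
        GrothLib.RegLoc.isIntegrallyClosed_of_isRegularLocalRing _⟩
    · have h := hS p
      rw [supportDim_localizedModule_self, min_eq_left (by
        exact WithBot.coe_le_coe.2 (by
          have h' := Order.add_one_le_of_lt hp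
          rwa [one_add_one_eq_two] at h'))] at h
      obtain ⟨rs, hlen, hmem, hreg⟩ := (natCast_le_depth_iff p 2).1 h
      obtain ⟨x, y, rfl⟩ := List.length_eq_two.1 hlen
      exact ⟨x, y, hmem x (by simp), hmem y (by simp), hreg⟩

/-- A hypersurface in a regular ring has depth two at its points of height at least two. -/
theorem exists_pair_of_quotient {S : Type u} [CommRing S] [IsRegularLocalRing S] {f : S}
    (hf : f ∈ maximalIdeal S) (hf0 : f ≠ 0) (h : 2 < ringKrullDim S) :
    ∃ rs : List S, rs.length = 2 ∧ (∀ r ∈ rs, r ∈ maximalIdeal S) ∧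
      IsWeaklyRegular (QuotSMulTop f S) rs := by
  have := GrothLib.CMFree.isDomain_of_isRegularLocalRing S
  obtain ⟨l, hl, hlm, hlen⟩ := GrothLib.CMFree.exists_weaklyRegular_of_isRegularLocalRing S
  have hne : maximalIdeal S • (⊤ : Submodule S S) ≠ ⊤ := by
    rw [smul_eq_mul, Ideal.mul_top]; exact (maximalIdeal.isMaximal S).ne_top
  have h3 : ((3 : ℕ) : ℕ∞) ≤ LocCoh.idealDepth (maximalIdeal S) S := by
    refine le_trans ?_ ((GrothLib.Depth.le_idealDepth_iff_exists _ hne l.length).2 ⟨l, rfl, hlm, hl⟩)
    rw [← hlen] at h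
    have h' : 2 < l.length := by exact_mod_cast h
    exact_mod_cast h'
  have hd := GrothLib.Depth.idealDepth_quotSMulTop_add_one (M := S) (maximalIdeal S) hf
    (isRegular_iff_ne_zero.2 hf0).left.isSMulRegular
  have h2 : ((2 : ℕ) : ℕ∞) ≤ LocCoh.idealDepth (maximalIdeal S) (QuotSMulTop f S) := by
    rw [← hd] at h3
    have : ((2 : ℕ) : ℕ∞) + 1 ≤ LocCoh.idealDepth (maximalIdeal S) (QuotSMulTop f S) + 1 := by
      exact_mod_cast h3
    exact (ENat.add_le_add_iff_right (by simp)).1 this
  refine (GrothLib.Depth.le_idealDepth_iff_exists _ ?_ 2).1 h2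
  intro htop
  have h0 : (⊤ : Submodule S (QuotSMulTop f S)) = ⊥ := Submodule.eq_bot_of_le_smul_of_le_jacobson_bot _ _
    Module.Finite.fg_top htop.ge (maximalIdeal_le_jacobson ⊥)
  have h1 : f • (⊤ : Submodule S S) = ⊤ := by
    rw [eq_top_iff]
    intro a _
    have : (Submodule.Quotient.mk a : QuotSMulTop f S) ∈ (⊥ : Submodule S _) := h0 ▸ Submodule.mem_top
    rwa [Submodule.mem_bot, Submodule.Quotient.mk_eq_zero] at this
  rw [← Submodule.ideal_span_singleton_smul, smul_eq_mul, Ideal.mul_top,
    Ideal.span_singleton_eq_top] at h1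
  exact (mem_maximalIdeal _).1 hf h1

end GrothLib.NormalSerre
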