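import Groth.Agent.Lib.NormalSerre.Serre
import Mathlib.RingTheory.DedekindDomain.PID
import Mathlib.RingTheory.DiscreteValuationRing.Basic

/-!
Associated primes of a principal ideal in a normal Noetherian domain have height one.
-/

set_option autoImplicit false
universe u

namespace GrothLib.NormalSerre

open IsLocalRing RingTheory.Sequence

variable {A : Type u} [CommRing A]

/-- If the maximal ideal of a normal Noetherian local domain multiplies some `c ∉ (b)` into `(b)`,
then it has height at most one. -/
theorem height_maximalIdeal_le_one [IsLocalRing A] [IsNoetherianRing A] [IsDomain A] [IsIntegrallyClosed A]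
    {b c : A} (hb : b ≠ 0) (hc : ¬ b ∣ c) (hmc : ∀ r ∈ maximalIdeal A, b ∣ r * c) :
    (maximalIdeal A).height ≤ 1 := by
  by_contra hlt
  obtain ⟨x, y, hx, hy, hxy⟩ := exists_pair_of_isIntegrallyClosed (not_le.1 hlt)
  rw [isWeaklyRegular_cons_iff, isWeaklyRegular_cons_iff] at hxy
  obtain ⟨d, hd⟩ := hmc x hx
  obtain ⟨e, he⟩ := hmc y hy
  have hyd : y * d = x * e := mul_left_cancel₀ hb (by
    rw [← mul_assoc, mul_comm b y, mul_assoc, ← hd, ← mul_assoc b x e, mul_comm b x, mul_assoc, ← he]
    ring)
  let q : A → QuotSMulTop x A := Submodule.Quotient.mk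
  have h0 : q d = 0 := by
    refine hxy.2.1.right_eq_zero_of_smul ?_
    show y • (Submodule.Quotient.mk d : QuotSMulTop x A) = 0
    rw [← Submodule.Quotient.mk_smul, Submodule.Quotient.mk_eq_zero]
    rw [smul_eq_mul, hyd]
    exact Submodule.smul_mem_pointwise_smul e x ⊤ trivial
  obtain ⟨g, -, hg⟩ := (Submodule.Quotient.mk_eq_zero _).1 h0
  replace hg : x * g = d := hg
  refine hc ⟨g, ?_⟩
  rcases eq_or_ne x 0 with rfl | hx0
  · have := hxy.1 (show (0 : A) • (1 : A) = (0 : A) • (0 : A) by simp)
    exact absurd this one_ne_zero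
  · exact mul_left_cancel₀ hx0 (by rw [hd, ← hg]; ring)

/-- Associated primes of `A ⧸ (b)` in a normal Noetherian domain have height one. -/
theorem height_eq_one_of_mem_associatedPrimes [IsDomain A] [IsNoetherianRing A] [IsIntegrallyClosed A]
    {b : A} (hb : b ≠ 0) {p : Ideal A} (hp : p ∈ associatedPrimes A (A ⧸ Ideal.span {b})) :
    p.height = 1 := by
  have hprime : p.IsPrime := hp.isPrime
  obtain ⟨-, z, hz⟩ := isAssociatedPrime_iff.1 (AssociatedPrimes.mem_iff.1 hp)
  obtain ⟨c, rfl⟩ := Ideal.Quotient.mk_surjective z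
  have hmem : ∀ r, r ∈ p ↔ b ∣ r * c := fun r => by
    rw [hz, Submodule.mem_colon_singleton, Submodule.mem_bot]
    show r • Ideal.Quotient.mk _ c = 0 ↔ _
    rw [Algebra.smul_def, Ideal.Quotient.algebraMap_eq, ← map_mul, Ideal.Quotient.eq_zero_iff_mem,
      Ideal.mem_span_singleton]
  refine le_antisymm ?_ ?_
  · let L := Localization.AtPrime p
    have : IsDomain L := IsLocalization.isDomain_localization p.primeCompl_le_nonZeroDivisors
    have : IsIntegrallyClosed L :=
      isIntegrallyClosed_of_isLocalization L p.primeCompl p.primeCompl_le_nonZeroDivisors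
    have hinj : Function.Injective (algebraMap A L) :=
      IsLocalization.injective L p.primeCompl_le_nonZeroDivisors
    refine le_of_eq_of_le ?_ (height_maximalIdeal_le_one (A := L) (b := algebraMap A L b)
      (c := algebraMap A L c) ((map_ne_zero_iff _ hinj).2 hb) ?_ ?_)
    · rw [← IsLocalization.height_under p.primeCompl (maximalIdeal L)]
      rw [show (maximalIdeal L).under A = p from IsLocalization.AtPrime.comap_maximalIdeal L p]
    · rintro ⟨d, hd⟩
      obtain ⟨⟨a, s⟩, hs⟩ := IsLocalization.surj p.primeCompl d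
      refine s.2 ((hmem s).2 ⟨a, hinj ?_⟩)
      rw [map_mul, map_mul, hd, ← hs]
      ring
    · intro r hr
      obtain ⟨⟨a, s⟩, hs⟩ := IsLocalization.surj p.primeCompl r
      have ha : a ∈ p := by
        have h1 : algebraMap A L a ∈ maximalIdeal L := by rw [← hs]; exact Ideal.mul_mem_right _ _ hr
        exact (IsLocalization.AtPrime.comap_maximalIdeal L p).le (Ideal.mem_comap.2 h1)
      obtain ⟨d, hd⟩ := (hmem a).1 ha
      have hu : IsUnit (algebraMap A L s) := IsLocalization.map_units L s
      refine hu.dvd_mul_left.1 ⟨algebraMap A L d, ?_⟩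
      rw [← map_mul (algebraMap A L) b d, ← hd, map_mul, ← hs]
      ring
  · rw [Order.one_le_iff_pos]
    refine lt_of_le_of_lt (zero_le) (lt_of_eq_of_lt (Ideal.height_bot (R := A)).symm
      (Ideal.height_strict_mono_of_isPrime_of_isPrime (bot_lt_iff_ne_bot.2 fun h => hb ?_)))
    have hbp : b ∈ p := (hmem b).2 ⟨c, rfl⟩
    rwa [h] at hbp

/-- A fraction lying in every localization at a height one prime of a normal Noetherian domain is in the ring. -/
theorem mem_range_of_forall_height_one [IsDomain A] [IsNoetherianRing A] [IsIntegrallyClosed A]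
    (x : FractionRing A)
    (hx : ∀ (p : Ideal A) [p.IsPrime], p.height = 1 →
      ∃ r s : A, s ∉ p ∧ algebraMap A (FractionRing A) r = x * algebraMap A (FractionRing A) s) :
    x ∈ Set.range (algebraMap A (FractionRing A)) := by
  obtain ⟨a, b, hb, rfl⟩ := IsFractionRing.div_surjective (A := A) x
  have hb' : algebraMap A (FractionRing A) b ≠ 0 := IsFractionRing.to_map_ne_zero_of_mem_nonZeroDivisors hb
  by_cases hab : Ideal.Quotient.mk (Ideal.span {b}) a = 0
  · rw [Ideal.Quotient.eq_zero_iff_mem, Ideal.mem_span_singleton'] at hab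
    obtain ⟨c, rfl⟩ := hab
    exact ⟨c, by rw [map_mul, mul_div_cancel_right₀ _ hb']⟩
  obtain ⟨p, hp, hle⟩ := exists_le_isAssociatedPrime_of_isNoetherianRing A (Ideal.Quotient.mk (Ideal.span {b}) a) hab
  have := hp.isPrime
  obtain ⟨r, s, hs, hrs⟩ := hx p (height_eq_one_of_mem_associatedPrimes (nonZeroDivisors.ne_zero hb) hp)
  refine absurd (hle ?_) hs
  rw [Submodule.mem_colon_singleton, Submodule.mem_bot]
  show s • Ideal.Quotient.mk _ a = 0
  rw [Algebra.smul_def, Ideal.Quotient.algebraMap_eq, ← map_mul, Ideal.Quotient.eq_zero_iff_mem,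
    Ideal.mem_span_singleton']
  refine ⟨r, IsFractionRing.injective A (FractionRing A) ?_⟩
  rw [map_mul, map_mul, hrs]
  field_simp

/-- A normal Noetherian local domain with `𝔪 ∈ Ass(A/(a))`, `a ≠ 0`, is a discrete valuation ring. -/
theorem isDiscreteValuationRing_of_mem_associatedPrimes [IsLocalRing A] [IsNoetherianRing A] [IsDomain A]
    [IsIntegrallyClosed A] {a : A} (ha : a ≠ 0)
    (hass : maximalIdeal A ∈ associatedPrimes A (A ⧸ Ideal.span {a})) : IsDiscreteValuationRing A := by
  have h1 := height_eq_one_of_mem_associatedPrimes ha hass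
  have : Ring.DimensionLEOne A := ⟨fun {P} hP hPp => by
    by_contra hmax
    have hlt : P < maximalIdeal A := lt_of_le_of_ne (le_maximalIdeal hPp.ne_top)
      fun e => hmax (e ▸ maximalIdeal.isMaximal A)
    have hb : (⊥ : Ideal A) < P := bot_lt_iff_ne_bot.2 hP
    have h2 := Ideal.height_strict_mono_of_isPrime_of_isPrime hb
    have h3 := Ideal.height_strict_mono_of_isPrime_of_isPrime hlt
    rw [Ideal.height_bot] at h2
    exact absurd (h3.trans_le h1.le) (not_lt.2 (Order.one_le_iff_pos.2 h2))⟩
  have : IsDedekindRing A := { }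
  have : IsDedekindDomain A := { }
  have hfin : {P : Ideal A | P.IsMaximal}.Finite :=
    (Set.finite_singleton (maximalIdeal A)).subset fun P hP => eq_maximalIdeal hP
  have : IsPrincipalIdealRing A := IsPrincipalIdealRing.of_finite_primes
    (Set.Finite.subset ((Set.finite_singleton (maximalIdeal A)).insert ⊥) fun P (hP : P.IsPrime) => by
      by_cases h : P = ⊥
      · exact Or.inl h
      · exact Or.inr (eq_maximalIdeal (hP.isMaximal h)))
  exact { not_a_field' := fun h => by rw [h, Ideal.height_bot] at h1; exact zero_ne_one h1 }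

end GrothLib.NormalSerre
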