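import Mathlib.RingTheory.Regular.RegularSequence
import Mathlib.RingTheory.IntegralClosure.IntegrallyClosed
import Mathlib.RingTheory.Localization.FractionRing
import Mathlib.RingTheory.Localization.LocalizationLocalization
import Mathlib.RingTheory.Localization.Integral
import Mathlib.RingTheory.Ideal.KrullsHeightTheorem
import Mathlib.RingTheory.Ideal.MinimalPrime.Noetherian

/-!
# Normality from normality on the punctured spectrum and depth two
-/

universe u

open IsLocalRing RingTheory.Sequence nonZeroDivisors

namespace GrothLib.NormalSerre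

variable {A : Type u} [CommRing A]

/-- A regular pair `x, y` stays regular after taking powers, in the form used below. -/
theorem mem_span_pow_of_pair {x y : A} (hx : IsSMulRegular A x)
    (hy : ∀ a, y * a ∈ Ideal.span {x} → a ∈ Ideal.span {x}) (N : ℕ) :
    ∀ (n : ℕ) (a : A), y ^ N * a ∈ Ideal.span {x ^ n} → a ∈ Ideal.span {x ^ n} := by
  have hyN : ∀ (N : ℕ) (a : A), y ^ N * a ∈ Ideal.span {x} → a ∈ Ideal.span {x} := by
    intro N
    induction N with
    | zero => intro a; simp
    | succ N ih => intro a ha; exact hy a (ih _ (by rwa [← mul_assoc, ← pow_succ]))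
  intro n
  induction n with
  | zero => intro a _; simp
  | succ n ih =>
    intro a ha
    obtain ⟨c, hc⟩ := Ideal.mem_span_singleton'.1 ha
    obtain ⟨a', rfl⟩ := Ideal.mem_span_singleton'.1
      (hyN N a (Ideal.mem_span_singleton'.2 ⟨c * x ^ n, by rw [mul_assoc, ← pow_succ, hc]⟩))
    have h1 : y ^ N * a' = c * x ^ n := hx (by
      show x * (y ^ N * a') = x * (c * x ^ n)
      rw [pow_succ] at hc
      linear_combination -hc)
    obtain ⟨d, rfl⟩ := Ideal.mem_span_singleton'.1 (ih a' (Ideal.mem_span_singleton'.2 ⟨c, h1.symm⟩))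
    exact Ideal.mem_span_singleton'.2 ⟨d, by ring⟩

/-- An ideal not contained in any prime of the punctured spectrum contains powers of elements of
the maximal ideal. -/
theorem exists_pow_mem [IsLocalRing A] (D : Ideal A)
    (h : ∀ (P : Ideal A), P.IsPrime → P ≠ maximalIdeal A → ¬ D ≤ P) {x : A}
    (hx : x ∈ maximalIdeal A) : ∃ N, x ^ N ∈ D := by
  show x ∈ D.radical
  rw [Ideal.radical_eq_sInf]
  refine Submodule.mem_sInf.2 fun P ⟨hDP, hP⟩ => ?_
  by_cases hPm : P = maximalIdeal A
  · exact hPm ▸ hx
  · exact absurd hDP (h P hP hPm)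

variable [IsLocalRing A] [IsNoetherianRing A]

/-- A Noetherian local ring of depth at least two which is normal on the punctured spectrum is a
normal domain. -/
theorem isDomain_isIntegrallyClosed_of_pair (x y : A) (hx : x ∈ maximalIdeal A)
    (hy : y ∈ maximalIdeal A) (hreg : IsWeaklyRegular A [x, y])
    (h : ∀ (P : Ideal A) [P.IsPrime], P ≠ maximalIdeal A →
      IsDomain (Localization.AtPrime P) ∧ IsIntegrallyClosed (Localization.AtPrime P)) :
    IsDomain A ∧ IsIntegrallyClosed A := by
  classical
  rw [isWeaklyRegular_cons_iff, isWeaklyRegular_cons_iff] at hreg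
  obtain ⟨hxr, hyr, -⟩ := hreg
  have hyx : ∀ a, y * a ∈ Ideal.span {x} → a ∈ Ideal.span {x} := by
    have e : (A ⧸ Ideal.span {x}) ≃ₗ[A] QuotSMulTop x A := Submodule.quotEquivOfEq _ _ (by
      simp [← Submodule.ideal_span_singleton_smul])
    intro a ha
    have h1 := (e.isSMulRegular_congr y).2 hyr
    rw [← Ideal.Quotient.eq_zero_iff_mem] at ha ⊢
    refine h1 ?_
    show y • Ideal.Quotient.mk (Ideal.span {x}) a = y • (0 : A ⧸ Ideal.span {x})
    rw [smul_zero, Algebra.smul_def, Ideal.Quotient.algebraMap_eq, ← map_mul, ha]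
  have hxpow : ∀ N a, x ^ N * a = 0 → a = 0 := fun N a ha => (IsSMulRegular.pow N hxr) (by
    show x ^ N * a = x ^ N * 0
    rw [ha, mul_zero])
  -- reduced
  have hred : ∀ a : A, IsNilpotent a → a = 0 := by
    intro a ha
    let D : Ideal A :=
      { carrier := {d | d * a = 0}
        zero_mem' := zero_mul a
        add_mem' := fun {p q} (hp : p * a = 0) (hq : q * a = 0) => show (p + q) * a = 0 by
          rw [add_mul, hp, hq, add_zero]
        smul_mem' := fun c {d} (hd : d * a = 0) => show c * d * a = 0 by
          rw [mul_assoc, hd, mul_zero] }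
    obtain ⟨N, hN⟩ := exists_pow_mem D (fun P hP hPm hle => by
      have := (h P hPm).1
      have h0 : algebraMap A (Localization.AtPrime P) a = 0 := (ha.map _).eq_zero
      obtain ⟨s, hs⟩ := (IsLocalization.map_eq_zero_iff P.primeCompl _ a).1 h0
      exact s.2 (hle hs)) hx
    exact hxpow N a hN
  -- integral closedness in the total ring of fractions
  let K := Localization A⁰
  have hint : ∀ z : K, IsIntegral A z → z ∈ (algebraMap A K).range := by
    intro z hz
    let D : Ideal A :=
      { carrier := {d | algebraMap A K d * z ∈ (algebraMap A K).range}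
        zero_mem' := ⟨0, by simp⟩
        add_mem' := fun {p q} hp hq => by
          show algebraMap A K (p + q) * z ∈ (algebraMap A K).range
          rw [map_add, add_mul]; exact add_mem hp hq
        smul_mem' := fun c {d} hd => by
          show algebraMap A K (c * d) * z ∈ (algebraMap A K).range
          rw [map_mul, mul_assoc]; exact mul_mem ⟨c, rfl⟩ hd }
    have hD : ∀ (P : Ideal A), P.IsPrime → P ≠ maximalIdeal A → ¬ D ≤ P := by
      intro P hP hPm hle
      obtain ⟨hdom, hic⟩ := h P hPm
      let AP := Localization.AtPrime P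
      let L := FractionRing AP
      have hu : ∀ s : A⁰, IsUnit (algebraMap A L s) := fun s => by
        rw [IsScalarTower.algebraMap_apply A AP L, isUnit_iff_ne_zero, ne_eq,
          IsFractionRing.to_map_eq_zero_iff (R := AP)]
        intro h0
        obtain ⟨t, ht⟩ := (IsLocalization.map_eq_zero_iff P.primeCompl _ _).1 h0
        have : (t : A) = 0 := mem_nonZeroDivisors_iff_right.1 s.2 _ ht
        exact t.2 (by rw [this]; exact P.zero_mem)
      let g : K →ₐ[A] L := IsLocalization.liftAlgHom (f := Algebra.ofId A L) hu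
      obtain ⟨w, hw⟩ := (isIntegrallyClosed_iff L).1 hic ((hz.map g).tower_top (A := AP))
      obtain ⟨a', t, rfl⟩ := IsLocalization.exists_mk'_eq P.primeCompl w
      obtain ⟨a, s, rfl⟩ := IsLocalization.exists_mk'_eq A⁰ z
      have h1 : algebraMap A L a = g (IsLocalization.mk' K a s) * algebraMap A L s := by
        rw [← g.commutes a, ← g.commutes (s : A), ← map_mul, IsLocalization.mk'_spec]
      have h2 : algebraMap A L a' = g (IsLocalization.mk' K a s) * algebraMap A L t := by
        rw [← hw, IsScalarTower.algebraMap_apply A AP L, IsScalarTower.algebraMap_apply A AP L,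
          ← map_mul, IsLocalization.mk'_spec]
      have h3 : algebraMap A AP (a * t) = algebraMap A AP (a' * s) := by
        apply IsFractionRing.injective AP L
        rw [← IsScalarTower.algebraMap_apply, ← IsScalarTower.algebraMap_apply, map_mul, map_mul,
          h1, h2]
        ring
      obtain ⟨u, hu'⟩ := (IsLocalization.eq_iff_exists P.primeCompl _).1 h3
      refine (u * t).2 (hle ?_)
      refine ⟨(u : A) * a', ?_⟩
      rw [eq_comm, IsLocalization.mul_mk'_eq_mk'_of_mul, IsLocalization.mk'_eq_iff_eq_mul,
        ← map_mul]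
      congr 1
      simp only [Submonoid.coe_mul]
      linear_combination hu'
    obtain ⟨N, hN⟩ := exists_pow_mem D hD hx
    obtain ⟨M, hM⟩ := exists_pow_mem D hD hy
    obtain ⟨α, hα⟩ := hN
    obtain ⟨β, hβ⟩ := hM
    have h1 : y ^ M * α = x ^ N * β := IsFractionRing.injective A K (by
      rw [map_mul, map_mul, hα, hβ]; ring)
    obtain ⟨c, rfl⟩ := Ideal.mem_span_singleton'.1
      (mem_span_pow_of_pair hxr hyx M N α (Ideal.mem_span_singleton'.2 ⟨β, by rw [h1, mul_comm]⟩))
    refine ⟨c, ?_⟩
    have hu : IsUnit (algebraMap A K (x ^ N)) :=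
      IsLocalization.map_units K (⟨x ^ N, mem_nonZeroDivisors_iff_right.2 fun b hb =>
        hxpow N b (by rw [mul_comm]; exact hb)⟩ : A⁰)
    refine hu.mul_left_cancel ?_
    rw [← map_mul, mul_comm (x ^ N) c]
    exact hα
  -- domain
  have hsub : (minimalPrimes A).Subsingleton := by
    intro p hp q hq
    by_contra hne
    have hfin := minimalPrimes.finite_of_isNoetherianRing A
    let s := hfin.toFinset.erase p
    have hpp : p.IsPrime := Ideal.minimalPrimes_isPrime hp
    obtain ⟨a, hap, has⟩ : ∃ a ∈ p, ∀ q ∈ s, a ∉ q := by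
      by_contra hcon
      push Not at hcon
      have hsubset : (p : Set A) ⊆ ⋃ i ∈ (↑s : Set (Ideal A)), ((fun i => i) i : Ideal A) := fun a ha => by
        obtain ⟨q, hq, haq⟩ := hcon a ha
        exact Set.mem_biUnion hq haq
      obtain ⟨i, hi, hpi⟩ := (Ideal.subset_union_prime (f := fun i : Ideal A => i) ⊤ ⊤ fun i hi _ _ =>
        Ideal.minimalPrimes_isPrime (hfin.mem_toFinset.1 (Finset.mem_of_mem_erase hi))).1 hsubset
      exact (Finset.ne_of_mem_erase hi) (le_antisymm hpi
        ((hfin.mem_toFinset.1 (Finset.mem_of_mem_erase hi)).2 ⟨hpp, bot_le⟩ hpi)).symm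
    have hsle : ¬ (∏ i ∈ s, i) ≤ p := fun hle => by
      obtain ⟨i, hi, hip⟩ := (hpp.prod_le).1 hle
      have hi' := hfin.mem_toFinset.1 (Finset.mem_of_mem_erase hi)
      exact (Finset.ne_of_mem_erase hi) (le_antisymm hip (hp.2 ⟨Ideal.minimalPrimes_isPrime hi', bot_le⟩ hip))
    obtain ⟨b, hbs, hbp⟩ := SetLike.not_le_iff_exists.1 hsle
    have hbq : ∀ i ∈ s, b ∈ i := fun i hi => (Ideal.prod_le_inf.trans (Finset.inf_le hi)) hbs
    have hmem : ∀ c : A, (∀ i ∈ minimalPrimes A, c ∈ i) → c = 0 := fun c hc => hred c (by
      rw [← mem_nilradical]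
      show c ∈ Ideal.radical (⊥ : Ideal A)
      rw [← Ideal.sInf_minimalPrimes]
      exact Submodule.mem_sInf.2 hc)
    have hcase : ∀ i ∈ minimalPrimes A, i = p ∨ i ∈ s := fun i hi => by
      by_cases h : i = p
      · exact Or.inl h
      · exact Or.inr (Finset.mem_erase.2 ⟨h, hfin.mem_toFinset.2 hi⟩)
    have hab : a * b = 0 := hmem _ fun i hi => (hcase i hi).elim
      (fun h => h ▸ p.mul_mem_right b hap) (fun h => i.mul_mem_left a (hbq i h))
    have hnzd : a + b ∈ A⁰ := mem_nonZeroDivisors_iff_right.2 fun c hc => hmem c fun i hi => by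
      have hip := Ideal.minimalPrimes_isPrime hi
      have h0 : c * (a + b) ∈ i := by rw [hc]; exact i.zero_mem
      refine (hip.mem_or_mem h0).resolve_right fun habi => ?_
      rcases hcase i hi with rfl | h
      · exact hbp ((Ideal.add_mem_iff_right _ hap).1 habi)
      · exact has i h ((Ideal.add_mem_iff_left _ (hbq i h)).1 habi)
    let z : K := IsLocalization.mk' K a ⟨a + b, hnzd⟩
    have hzz : z * z = z := by
      show IsLocalization.mk' K a _ * IsLocalization.mk' K a _ = IsLocalization.mk' K a _
      rw [← IsLocalization.mk'_mul, IsLocalization.mk'_eq_iff_eq]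
      congr 1
      simp only [Submonoid.coe_mul]
      linear_combination -(a + b) * hab
    have hzint : IsIntegral A z :=
      ⟨Polynomial.X ^ 2 - Polynomial.X, Polynomial.monic_X_pow_sub (by simp), by simp [pow_two, hzz]⟩
    obtain ⟨c, hc⟩ := hint z hzint
    have hca : c * (a + b) = a := IsFractionRing.injective A K (by
      rw [map_mul, hc]; exact IsLocalization.mk'_spec K a ⟨a + b, hnzd⟩)
    have hcc : c * c = c := IsFractionRing.injective A K (by rw [map_mul, hc, hzz])
    rcases (em (IsUnit c)) with hcu | hcu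
    · have hc1 : c = 1 := hcu.mul_left_cancel (by rw [hcc, mul_one])
      rw [hc1, one_mul] at hca
      exact hbp (by rw [show b = 0 by linear_combination hca]; exact p.zero_mem)
    · obtain ⟨u, hu⟩ : IsUnit (1 - c) := (IsLocalRing.isUnit_or_isUnit_one_sub_self c).resolve_left hcu
      have hc0 : c = 0 := by
        have : (1 - c) * c = 0 := by rw [sub_mul, one_mul, hcc, sub_self]
        rw [← hu] at this
        exact (Units.mul_right_eq_zero u).1 this
      rw [hc0, zero_mul] at hca
      have hqs : q ∈ s := (hcase q hq).resolve_left (Ne.symm hne)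
      exact has q hqs (hca ▸ q.zero_mem)
  have hdom : IsDomain A := by
    obtain ⟨p, hp⟩ := Ideal.nonempty_minimalPrimes (I := (⊥ : Ideal A)) bot_ne_top
    have : p = ⊥ := eq_bot_iff.2 fun c hc => hred c (by
      rw [← mem_nilradical]
      show c ∈ Ideal.radical (⊥ : Ideal A)
      rw [← Ideal.sInf_minimalPrimes]
      exact Submodule.mem_sInf.2 fun i hi => hsub hp hi ▸ hc)
    have hb : (⊥ : Ideal A).IsPrime := this ▸ Ideal.minimalPrimes_isPrime hp
    exact (IsDomain.of_bot_isPrime A)
  refine ⟨hdom, (isIntegrallyClosed_iff K).2 fun {z} hz => ?_⟩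
  obtain ⟨c, hc⟩ := hint z hz
  exact ⟨c, hc⟩

/-- Normality at all primes from normality in height at most one and depth two above. -/
theorem isDomain_isIntegrallyClosed_localization (R : Type u) [CommRing R] [IsNoetherianRing R]
    (h1 : ∀ (p : Ideal R) [p.IsPrime], p.height ≤ 1 →
      IsDomain (Localization.AtPrime p) ∧ IsIntegrallyClosed (Localization.AtPrime p))
    (h2 : ∀ (p : Ideal R) [p.IsPrime], 1 < p.height →
      ∃ x y : Localization.AtPrime p, x ∈ maximalIdeal _ ∧ y ∈ maximalIdeal _ ∧
        IsWeaklyRegular (Localization.AtPrime p) [x, y]) :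
    ∀ (p : Ideal R) [p.IsPrime],
      IsDomain (Localization.AtPrime p) ∧ IsIntegrallyClosed (Localization.AtPrime p) := by
  suffices H : ∀ (n : ℕ) (p : Ideal R) [p.IsPrime], p.height ≤ n →
      IsDomain (Localization.AtPrime p) ∧ IsIntegrallyClosed (Localization.AtPrime p) by
    intro p _
    obtain ⟨n, hn⟩ := ENat.ne_top_iff_exists.1 (Ideal.height_ne_top_of_isPrime (I := p))
    exact H n p hn.ge
  intro n
  induction n with
  | zero => intro p _ hp; exact h1 p (hp.trans (by simp))
  | succ n ih =>
    intro p _ hp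
    by_cases hp1 : p.height ≤ 1
    · exact h1 p hp1
    obtain ⟨x, y, hx, hy, hxy⟩ := h2 p (not_le.1 hp1)
    refine isDomain_isIntegrallyClosed_of_pair x y hx hy hxy fun P _ hP => ?_
    let q := P.comap (algebraMap R (Localization.AtPrime p))
    have hqp : q < p := by
      refine lt_of_le_of_ne ?_ ?_
      · have := Ideal.comap_mono (f := algebraMap R (Localization.AtPrime p))
          (le_maximalIdeal (Ideal.IsPrime.ne_top (inferInstance : P.IsPrime)))
        refine this.trans (le_of_eq ?_)
        exact IsLocalization.AtPrime.comap_maximalIdeal (Localization.AtPrime p) p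
      · intro he
        apply hP
        rw [← IsLocalization.map_comap p.primeCompl _ P, ← Localization.AtPrime.map_eq_maximalIdeal]
        exact congrArg _ he
    have hq : q.height ≤ n := by
      have hlt := (Ideal.height_strict_mono_of_isPrime_of_isPrime hqp).trans_le hp
      rw [Nat.cast_succ] at hlt
      exact ENat.lt_add_one_iff (ENat.coe_ne_top n) |>.1 hlt
    obtain ⟨hd, hi⟩ := ih q hq
    have : IsLocalization.AtPrime (Localization.AtPrime P) q :=
      IsLocalization.isLocalization_isLocalization_atPrime_isLocalization p.primeCompl _ P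
    let e : Localization.AtPrime q ≃+* Localization.AtPrime P :=
      (IsLocalization.algEquiv q.primeCompl _ _).toRingEquiv
    exact ⟨e.symm.toMulEquiv.isDomain, IsIntegrallyClosed.of_equiv e⟩

end GrothLib.NormalSerre
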